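import Groth.Agent.LinSect.Elim
import Mathlib

/-!
# Functions independent at a generic point have independent differentials at most closed points
-/

set_option autoImplicit false
set_option linter.style.haveILetI false

universe u

noncomputable section

namespace Groth.Agent.RankLocus

open scoped DualNumber

variable {k : Type u} [Field k] [CharZero k] {A : Type u} [CommRing A] [Algebra k A] [Algebra.FiniteType k A]

/-- Independent functions at a generic point have independent differentials on a dense open set. -/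
theorem exists_notMem_independent (p : Ideal A) [p.IsPrime] {σ : Type} [Fintype σ] [DecidableEq σ] (f : σ → A)
    (hf : AlgebraicIndependent k fun i => algebraMap (A ⧸ p) (FractionRing (A ⧸ p)) (Ideal.Quotient.mk p (f i))) :
    ∃ h ∉ p, ∀ χ : A →ₐ[k] k, (∀ a ∈ p, χ a = 0) → χ h ≠ 0 → ∀ c : σ → k,
      ∑ i, c i • (f i - algebraMap k A (χ (f i))) ∈ RingHom.ker χ ^ 2 → c = 0 := by
  classical
  let D := A ⧸ p
  let L := FractionRing D
  haveI : Algebra.FiniteType k D := .trans (R := k) (S := A) inferInstance inferInstance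
  haveI : Algebra.EssFiniteType D L := Algebra.EssFiniteType.of_isLocalization L (nonZeroDivisors D)
  haveI : Algebra.EssFiniteType k L := Algebra.EssFiniteType.comp k D L
  let ι : A →ₐ[k] L := (IsScalarTower.toAlgHom k D L).comp (Ideal.Quotient.mkₐ k p)
  have hι : ∀ a, ι a = 0 ↔ a ∈ p := fun a => by
    show algebraMap D L (Ideal.Quotient.mk p a) = 0 ↔ _
    rw [map_eq_zero_iff _ (IsFractionRing.injective D L), Ideal.Quotient.eq_zero_iff_mem]
  choose Θ hfst hsnd using fun j : σ => LinSect.exists_theta_field (K := k) (fun i => ι (f i))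
    (fun i => if i = j then (1 : L) else 0) hf
  let d : σ → A → L := fun j a => TrivSqZeroExt.snd (Θ j (ι a))
  have dmul : ∀ j a a', d j (a * a') = ι a * d j a' + d j a * ι a' := fun j a a' => by
    simp only [d, map_mul, DualNumber.snd_mul, hfst]
  have dadd : ∀ j a a', d j (a + a') = d j a + d j a' := fun j a a' => by simp [d]
  have dalg : ∀ j c, d j (algebraMap k A c) = 0 := fun j c => by
    simp [d, TrivSqZeroExt.algebraMap_eq_inl']
  obtain ⟨s, hs⟩ := Algebra.FiniteType.out (R := k) (A := A)
  obtain ⟨e, he⟩ := IsLocalization.exist_integer_multiples (nonZeroDivisors D) (Finset.univ : Finset (σ × s))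
    fun i => d i.1 i.2.1
  obtain ⟨h, hh⟩ := Ideal.Quotient.mk_surjective (e : D)
  have hhp : h ∉ p := fun hp => nonZeroDivisors.ne_zero e.2 (by rw [← hh, Ideal.Quotient.eq_zero_iff_mem.2 hp])
  have hint : ∀ j a, ∃ b, ι b = ι h * d j a := by
    intro j a
    let P : Subalgebra k A :=
      { carrier := {a | ∃ b, ι b = ι h * d j a}
        mul_mem' := by
          rintro a a' ⟨b, hb⟩ ⟨b', hb'⟩
          exact ⟨a * b' + b * a', by rw [map_add, map_mul, map_mul, hb, hb', dmul]; ring⟩
        add_mem' := by
          rintro a a' ⟨b, hb⟩ ⟨b', hb'⟩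
          exact ⟨b + b', by rw [map_add, hb, hb', dadd, mul_add]⟩
        algebraMap_mem' := fun c => ⟨0, by rw [map_zero, dalg, mul_zero]⟩ }
    have hle : Algebra.adjoin k (s : Set A) ≤ P := Algebra.adjoin_le fun a ha => by
      obtain ⟨y, hy⟩ := he (j, ⟨a, ha⟩) (Finset.mem_univ _)
      obtain ⟨b, rfl⟩ := Ideal.Quotient.mk_surjective y
      refine ⟨b, ?_⟩
      show algebraMap D L (Ideal.Quotient.mk p b) = algebraMap D L (Ideal.Quotient.mk p h) * _
      rw [hy, hh]
      exact Algebra.smul_def _ _
    rw [hs] at hle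
    exact hle (Algebra.mem_top (x := a))
  choose b hb using hint
  refine ⟨h, hhp, fun χ hχ hχh c hc => ?_⟩
  have hcong : ∀ x y, ι x = ι y → χ x = χ y := fun x y hxy => by
    rw [← sub_eq_zero, ← map_sub]
    exact hχ _ ((hι _).1 (by rw [map_sub, hxy, sub_self]))
  have hsq : ∀ j, ∀ a ∈ RingHom.ker χ ^ 2, χ (b j a) = 0 := by
    intro j a ha
    rw [pow_two] at ha
    induction ha using Submodule.mul_induction_on' with
    | mem_mul_mem x hx y hy =>
      rw [RingHom.mem_ker] at hx hy
      rw [hcong _ (x * b j y + b j x * y) (by rw [hb, map_add, map_mul, map_mul, hb, hb, dmul]; ring)]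
      simp [map_add, map_mul, hx, hy]
    | add x _ y _ hx hy =>
      rw [hcong _ (b j x + b j y) (by rw [hb, map_add, hb, hb, dadd, mul_add]), map_add, hx, hy, add_zero]
  funext j
  let z := ∑ i, c i • (f i - algebraMap k A (χ (f i)))
  have hz : d j z = algebraMap k L (c j) := by
    simp only [d, z, map_sum, map_smul, map_sub, AlgHom.commutes]
    rw [show TrivSqZeroExt.snd (∑ i, c i • (Θ j (ι (f i)) - algebraMap k L[ε] (χ (f i)))) =
      ∑ i, TrivSqZeroExt.snd (c i • (Θ j (ι (f i)) - algebraMap k L[ε] (χ (f i)))) from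
        map_sum (TrivSqZeroExt.sndHom L L) _ _]
    simp [hsnd, TrivSqZeroExt.algebraMap_eq_inl', Algebra.smul_def, mul_ite]
  have h1 := hsq j z hc
  rw [hcong _ (algebraMap k A (c j) * h) (by rw [hb, hz, map_mul, AlgHom.commutes, mul_comm]), map_mul,
    AlgHom.commutes] at h1
  simpa [hχh] using h1

end Groth.Agent.RankLocus
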