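import Groth.Prelude.Def_FixPt
import Groth.Agent.WeilLib.Trdeg
import Groth.Agent.RankLocus.Alg
import Mathlib

/-!
# The image of the locus where the tangent map has rank at most `r` has dimension at most `r`
-/

set_option autoImplicit false
set_option linter.style.haveILetI false
set_option backward.isDefEq.respectTransparency false

universe u

open CategoryTheory AlgebraicGeometry Topology

noncomputable section

namespace Groth.Agent.RankLocus

attribute [local instance] specializationOrder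

variable {k : Type u} [Field k]

/-- A point whose closure has dimension above `r` carries `r + 1` independent functions. -/
theorem exists_independent {Y : Scheme.{u}} (qY : Y ⟶ Spec (CommRingCat.of k)) [LocallyOfFiniteType qY]
    {U : Y.Opens} (hU : IsAffineOpen U) {y : Y} (hy : y ∈ U) (r : ℕ) (hr : (r : ℕ∞) < Order.height y) :
    letI := (WeilLib.secStr qY U).toAlgebra
    ∃ b : Fin (r + 1) → Γ(Y, U),
      AlgebraicIndependent k fun i => Ideal.Quotient.mk (hU.primeIdealOf ⟨y, hy⟩).asIdeal (b i) := by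
  letI := (WeilLib.secStr qY U).toAlgebra
  haveI : Algebra.FiniteType k Γ(Y, U) := WeilLib.finiteType_secStr qY hU
  letI := (WeilLib.kStr qY y).toAlgebra
  let q := (hU.primeIdealOf ⟨y, hy⟩).asIdeal
  let ι : Γ(Y, U) →ₐ[k] Y.residueField y :=
    { (Y.evaluation U y hy).hom with
      commutes' := RingHom.congr_fun (WeilLib.evaluation_comp_secStr qY hy) }
  have hker : RingHom.ker ι = q := by
    let := Y.presheaf.algebra_section_stalk ⟨y, hy⟩
    have := hU.isLocalization_stalk ⟨y, hy⟩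
    show RingHom.ker ((IsLocalRing.residue (Y.presheaf.stalk y)).comp
      (algebraMap Γ(Y, U) (Y.presheaf.stalk y))) = _
    rw [← RingHom.comap_ker, IsLocalRing.ker_residue]
    exact IsLocalization.AtPrime.under_maximalIdeal (Y.presheaf.stalk y) _
  let ψ : (Γ(Y, U) ⧸ q) →ₐ[k] Y.residueField y := Ideal.Quotient.liftₐ q ι fun a ha => by
    rwa [← hker, RingHom.mem_ker] at ha
  haveI : Algebra.FiniteType k (Γ(Y, U) ⧸ q) := .trans (R := k) (S := Γ(Y, U)) inferInstance inferInstance
  have hψ : Function.Injective ψ := by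
    rw [injective_iff_map_eq_zero]
    intro a ha
    obtain ⟨a, rfl⟩ := Ideal.Quotient.mk_surjective a
    rw [Ideal.Quotient.eq_zero_iff_mem]
    exact hker.le ha
  obtain ⟨t, ht, htdim⟩ := WeilLib.exists_dim_eq_trdeg ψ hψ (fun z => by
    obtain ⟨z, rfl⟩ := IsLocalRing.residue_surjective z
    let := Y.presheaf.algebra_section_stalk ⟨y, hy⟩
    have := hU.isLocalization_stalk ⟨y, hy⟩
    obtain ⟨⟨b, d⟩, hbd⟩ := IsLocalization.surj (hU.primeIdealOf ⟨y, hy⟩).asIdeal.primeCompl z
    refine ⟨Ideal.Quotient.mk q b, Ideal.Quotient.mk q d, fun h => d.2 ?_, ?_⟩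
    · exact hker.le (show ι d = 0 from h)
    · show IsLocalRing.residue _ z * IsLocalRing.residue _ (algebraMap Γ(Y, U) (Y.presheaf.stalk y) d) =
        IsLocalRing.residue _ (algebraMap Γ(Y, U) (Y.presheaf.stalk y) b)
      rw [← map_mul, hbd])
  obtain ⟨s, hs, hh⟩ := WeilLib.exists_height_eq_trd qY y
  have hst : t = s := by exact_mod_cast ht.symm.trans hs
  subst hst
  obtain ⟨e, g, hgi, hgf⟩ := exists_finite_inj_algHom_of_fg k (Γ(Y, U) ⧸ q)
  have het : e = t := by exact_mod_cast (Unibranch.ringKrullDim_eq_of_finite_inj g hgi hgf).symm.trans htdim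
  subst het
  rw [hh] at hr
  replace hr : r < e := ENat.coe_lt_coe.1 hr
  choose b hb using fun i : Fin (r + 1) =>
    Ideal.Quotient.mk_surjective (g (MvPolynomial.X (Fin.castLE (Nat.succ_le_of_lt hr) i)))
  refine ⟨b, ?_⟩
  rw [show (fun i => Ideal.Quotient.mk (hU.primeIdealOf ⟨y, hy⟩).asIdeal (b i)) =
    (g ∘ MvPolynomial.X) ∘ Fin.castLE (Nat.succ_le_of_lt hr) from funext hb]
  exact ((MvPolynomial.algebraicIndependent_X (Fin e) k).map' hgi).comp _ (Fin.castLE_injective _)

/-- Germs of a function vanishing to second order. -/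
theorem mem_sq_of_germ {X : Scheme.{u}} {V : X.Opens} (hV : IsAffineOpen V) {x : X} (hx : x ∈ V)
    (hm : (hV.primeIdealOf ⟨x, hx⟩).asIdeal.IsMaximal) {a : Γ(X, V)}
    (ha : (X.presheaf.germ V x hx).hom a ∈ IsLocalRing.maximalIdeal (X.presheaf.stalk x) ^ 2) :
    a ∈ (hV.primeIdealOf ⟨x, hx⟩).asIdeal ^ 2 := by
  haveI := hm
  letI := X.presheaf.algebra_section_stalk ⟨x, hx⟩
  haveI := hV.isLocalization_stalk ⟨x, hx⟩
  let m := (hV.primeIdealOf ⟨x, hx⟩).asIdeal
  rw [← IsLocalization.AtPrime.map_eq_maximalIdeal m (X.presheaf.stalk x), ← Ideal.map_pow] at ha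
  obtain ⟨t, ht, hta⟩ := (IsLocalization.algebraMap_mem_map_algebraMap_iff m.primeCompl (X.presheaf.stalk x)
    (m ^ 2) a).1 ha
  obtain ⟨w, i, hi, hwi⟩ := Ideal.IsMaximal.exists_inv hm (show t ∉ m from ht)
  have h1 : (w * t + i) * (w * t + i) * a ∈ m ^ 2 := by
    have e : (w * t + i) * (w * t + i) * a = (w * w * t + 2 * w * i) * (t * a) + i * i * a := by ring
    rw [e]
    exact add_mem (Ideal.mul_mem_left _ _ hta)
      (Ideal.mul_mem_right _ _ (pow_two m ▸ Ideal.mul_mem_mul hi hi))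
  rwa [hwi, one_mul, one_mul] at h1

/-- Closed points are rational. -/
theorem exists_eval [IsAlgClosed k] {A : Type u} [CommRing A] [Algebra k A] [Algebra.FiniteType k A] (m : Ideal A)
    [m.IsMaximal] : ∃ χ : A →ₐ[k] k, RingHom.ker χ = m := by
  let F := A ⧸ m
  letI : Field F := Ideal.Quotient.field m
  haveI : Algebra.FiniteType k F := .trans (R := k) (S := A) inferInstance inferInstance
  haveI : Module.Finite k F := finite_of_finite_type_of_isJacobsonRing k F
  let e := AlgEquiv.ofBijective (Algebra.ofId k F) IsAlgClosed.algebraMap_bijective_of_isIntegral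
  refine ⟨e.symm.toAlgHom.comp (Ideal.Quotient.mkₐ k m), ?_⟩
  ext a
  simp only [RingHom.mem_ker]
  exact (map_eq_zero_iff _ e.symm.injective).trans Ideal.Quotient.eq_zero_iff_mem

variable [IsAlgClosed k] [CharZero k]

/-- The closed points where the tangent map has rank at most `r`. -/
def locus {X Y : Scheme.{u}} (f : X ⟶ Y) (r : ℕ) : Set X :=
  {x : ↥X | IsClosed ({x} : Set ↥X) ∧ ∃ S : Finset (IsLocalRing.CotangentSpace (X.presheaf.stalk x)),
    S.card ≤ r ∧ (LinearMap.range (FixPt.cotangentMapAt f x (f.base x) rfl) :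
      Set (IsLocalRing.CotangentSpace (X.presheaf.stalk x))) ⊆
      (Submodule.span (IsLocalRing.ResidueField (X.presheaf.stalk x))
        (S : Set (IsLocalRing.CotangentSpace (X.presheaf.stalk x))) :
          Set (IsLocalRing.CotangentSpace (X.presheaf.stalk x)))}

theorem height_le_of_dense {X Y : Scheme.{u}} (qY : Y ⟶ Spec (CommRingCat.of k)) [LocallyOfFiniteType qY]
    (f : X ⟶ Y) [LocallyOfFiniteType (f ≫ qY)] (r : ℕ) (η : X) {V₀ : X.Opens} (hη : η ∈ V₀)
    (hcl : η ∈ closure (locus f r)) (hgen : ∀ x ∈ locus f r, x ∈ V₀ → η ⤳ x) :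
    Order.height (f η) ≤ (r : ℕ∞) := by
  classical
  by_contra hlt
  rw [not_le] at hlt
  obtain ⟨U, hU, hyU, -⟩ := exists_isAffineOpen_mem_and_subset (X := Y) (x := f η) (U := ⊤) trivial
  obtain ⟨V, hV, hηV, hVsub⟩ := exists_isAffineOpen_mem_and_subset (X := X) (x := η) (U := V₀ ⊓ f ⁻¹ᵁ U) ⟨hη, hyU⟩
  have hVU : V ≤ f ⁻¹ᵁ U := fun x hx => (hVsub hx).2
  letI := (WeilLib.secStr qY U).toAlgebra
  letI := (WeilLib.secStr (f ≫ qY) V).toAlgebra
  haveI : Algebra.FiniteType k Γ(X, V) := WeilLib.finiteType_secStr _ hV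
  let φ : Γ(Y, U) →ₐ[k] Γ(X, V) :=
    { (f.appLE U V hVU).hom with
      commutes' := RingHom.congr_fun (congrArg CommRingCat.Hom.hom
        (show ((Scheme.ΓSpecIso (CommRingCat.of k)).inv ≫ qY.appLE ⊤ U le_top) ≫ f.appLE U V hVU =
          (Scheme.ΓSpecIso (CommRingCat.of k)).inv ≫ (f ≫ qY).appLE ⊤ V le_top by
          rw [Category.assoc, Scheme.Hom.appLE_comp_appLE])) }
  let p := (hV.primeIdealOf ⟨η, hηV⟩).asIdeal
  have hcomap : p.comap φ = (hU.primeIdealOf ⟨f η, hyU⟩).asIdeal :=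
    congrArg PrimeSpectrum.asIdeal (IsAffineOpen.comap_primeIdealOf_appLE U hU V hV hVU hηV)
  obtain ⟨b, hb⟩ := exists_independent qY hU hyU r hlt
  have hind : AlgebraicIndependent k fun i =>
      algebraMap (Γ(X, V) ⧸ p) (FractionRing (Γ(X, V) ⧸ p)) (Ideal.Quotient.mk p (φ (b i))) := by
    let χ : (Γ(Y, U) ⧸ (hU.primeIdealOf ⟨f η, hyU⟩).asIdeal) →ₐ[k] FractionRing (Γ(X, V) ⧸ p) :=
      Ideal.Quotient.liftₐ _ ((IsScalarTower.toAlgHom k (Γ(X, V) ⧸ p) (FractionRing (Γ(X, V) ⧸ p))).comp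
        ((Ideal.Quotient.mkₐ k p).comp φ)) fun a ha => by
        show algebraMap _ _ (Ideal.Quotient.mk p (φ a)) = 0
        rw [Ideal.Quotient.eq_zero_iff_mem.2 (show φ a ∈ p from hcomap.ge ha), map_zero]
    refine hb.map' (f := χ) ((injective_iff_map_eq_zero χ).2 fun a ha => ?_)
    obtain ⟨a, rfl⟩ := Ideal.Quotient.mk_surjective a
    change algebraMap _ _ (Ideal.Quotient.mk p (φ a)) = 0 at ha
    rw [map_eq_zero_iff _ (IsFractionRing.injective (Γ(X, V) ⧸ p) _), Ideal.Quotient.eq_zero_iff_mem] at ha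
    exact Ideal.Quotient.eq_zero_iff_mem.2 (hcomap.le ha)
  obtain ⟨h, hhp, hh⟩ := exists_notMem_independent p (fun i => φ (b i)) hind
  have hηD : η ∈ X.basicOpen h := by
    rw [X.mem_basicOpen h η hηV]
    letI := X.presheaf.algebra_section_stalk ⟨η, hηV⟩
    haveI := hV.isLocalization_stalk ⟨η, hηV⟩
    exact (IsLocalization.AtPrime.isUnit_to_map_iff (X.presheaf.stalk η) p h).2 hhp
  obtain ⟨x, hxD, hxL⟩ := mem_closure_iff.1 hcl _ (X.basicOpen h).2 hηD
  have hxV : x ∈ V := X.basicOpen_le h hxD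
  have hspec : η ⤳ x := hgen x hxL (hVsub hxV).1
  obtain ⟨hxc, S, hS, hrange⟩ := hxL
  let m := (hV.primeIdealOf ⟨x, hxV⟩).asIdeal
  have hm : m.IsMaximal := hV.primeIdealOf_isMaximal_of_isClosed ⟨x, hxV⟩ hxc
  have hpm : p ≤ m := by
    refine (PrimeSpectrum.le_iff_specializes (hV.primeIdealOf ⟨η, hηV⟩) (hV.primeIdealOf ⟨x, hxV⟩)).mpr ?_
    refine (hV.fromSpec.isOpenEmbedding.isInducing.specializes_iff).mp ?_
    rw [hV.fromSpec_primeIdealOf, hV.fromSpec_primeIdealOf]
    exact hspec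
  obtain ⟨χ, hχ⟩ := exists_eval (k := k) m
  letI := X.presheaf.algebra_section_stalk ⟨x, hxV⟩
  haveI := hV.isLocalization_stalk ⟨x, hxV⟩
  have hχh : χ h ≠ 0 := fun h0 => by
    have hu := (X.mem_basicOpen h x hxV).1 hxD
    exact (IsLocalization.AtPrime.isUnit_to_map_iff (X.presheaf.stalk x) m h).1 hu (hχ.le h0)
  let germ : Γ(X, V) →+* X.presheaf.stalk x := (X.presheaf.germ V x hxV).hom
  let K := IsLocalRing.ResidueField (X.presheaf.stalk x)
  let T := IsLocalRing.CotangentSpace (X.presheaf.stalk x)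
  have hgm : ∀ a, χ a = 0 → germ a ∈ IsLocalRing.maximalIdeal (X.presheaf.stalk x) := fun a ha => by
    rw [← IsLocalization.AtPrime.map_eq_maximalIdeal m (X.presheaf.stalk x)]
    exact Ideal.mem_map_of_mem (algebraMap Γ(X, V) (X.presheaf.stalk x)) (hχ.le ha)
  let a : Fin (r + 1) → Γ(X, V) := fun i => φ (b i) - algebraMap k Γ(X, V) (χ (φ (b i)))
  let c : Fin (r + 1) → T := fun i =>
    (IsLocalRing.maximalIdeal (X.presheaf.stalk x)).toCotangent ⟨germ (a i), hgm _ (by simp [a])⟩
  have hc : ∀ i, c i ∈ Submodule.span K (S : Set T) := by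
    intro i
    refine hrange ?_
    let u : Γ(Y, U) := b i - algebraMap k Γ(Y, U) (χ (φ (b i)))
    have hu : (X.presheaf.germ V x hxV).hom (φ u) = germ (a i) := by simp [u, a, germ]
    have key : FixPt.stalkMapAt f x (f.base x) rfl ((Y.presheaf.germ U (f.base x) (hVU hxV)).hom u) =
        (X.presheaf.germ V x hxV).hom (φ u) := by
      show (f.stalkMap x).hom (((Y.presheaf.stalkCongr (Inseparable.of_eq (rfl : f x = f.base x))).inv).hom _) = _
      simp only [TopCat.Presheaf.stalkCongr_inv, TopCat.Presheaf.stalkSpecializes_refl, CommRingCat.hom_id,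
        RingHom.id_apply]
      rw [Scheme.Hom.germ_stalkMap_apply]
      show (X.presheaf.germ (f ⁻¹ᵁ U) x (hVU hxV)).hom ((f.app U).hom u) =
        (X.presheaf.germ V x hxV).hom ((X.presheaf.map (homOfLE hVU).op).hom ((f.app U).hom u))
      exact (X.presheaf.germ_res_apply (homOfLE hVU) x hxV _).symm
    have hmem : (Y.presheaf.germ U (f.base x) (hVU hxV)).hom u ∈
        IsLocalRing.maximalIdeal (Y.presheaf.stalk (f.base x)) := by
      rw [IsLocalRing.mem_maximalIdeal, mem_nonunits_iff]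
      intro hunit
      have := hunit.map (FixPt.stalkMapAt f x (f.base x) rfl)
      rw [key, hu] at this
      exact (IsLocalRing.mem_maximalIdeal _).1 (hgm _ (by simp [a])) this
    refine ⟨(IsLocalRing.maximalIdeal (Y.presheaf.stalk (f.base x))).toCotangent ⟨_, hmem⟩, ?_⟩
    show Ideal.mapCotangent _ _ _ _ _ = _
    rw [Ideal.mapCotangent_toCotangent]
    exact congrArg _ (Subtype.ext (key.trans hu))
  have hdep : ¬ LinearIndependent K c := by
    intro hli
    have h1 : (r + 1) ≤ Module.finrank K ↥(Submodule.span K (S : Set T)) := by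
      have hli' : LinearIndependent K fun i => (⟨c i, hc i⟩ : Submodule.span K (S : Set T)) :=
        LinearIndependent.of_comp (Submodule.span K (S : Set T)).subtype hli
      simpa using hli'.fintype_card_le_finrank
    have h2 := finrank_span_finset_le_card (R := K) S
    exact Nat.not_succ_le_self r (h1.trans (le_trans h2 hS))
  obtain ⟨l, hl, i₀, hi₀⟩ := Fintype.not_linearIndependent_iff.1 hdep
  let ρ : Γ(X, V) →+* K := (IsLocalRing.residue (X.presheaf.stalk x)).comp germ
  have hρsur : ∀ z : K, ∃ c : k, ρ (algebraMap k Γ(X, V) c) = z := by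
    intro z
    obtain ⟨z, rfl⟩ := IsLocalRing.residue_surjective z
    obtain ⟨⟨n, d⟩, hnd⟩ := IsLocalization.surj m.primeCompl z
    have hρm : ∀ a, χ a = 0 → ρ a = 0 := fun a ha => (IsLocalRing.residue_eq_zero_iff _).2 (hgm a ha)
    have hρ : ∀ a, ρ a = ρ (algebraMap k Γ(X, V) (χ a)) := fun a => by
      rw [← sub_eq_zero, ← map_sub]
      exact hρm _ (by simp)
    have hd : χ (d : Γ(X, V)) ≠ 0 := fun h0 => d.2 (hχ.le h0)
    refine ⟨χ n / χ (d : Γ(X, V)), ?_⟩
    have e : IsLocalRing.residue _ z * ρ (d : Γ(X, V)) = ρ n := by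
      have := congrArg (IsLocalRing.residue (X.presheaf.stalk x)) hnd
      rwa [map_mul] at this
    have e' : ρ (algebraMap k Γ(X, V) (χ (d : Γ(X, V)))) * ρ (algebraMap k Γ(X, V) (χ (d : Γ(X, V)))⁻¹) = 1 := by
      rw [← map_mul, ← map_mul, mul_inv_cancel₀ hd, map_one, map_one]
    rw [div_eq_mul_inv, map_mul, map_mul, ← hρ n, ← e, hρ (d : Γ(X, V)), mul_assoc, e', mul_one]
  choose w hw using fun i => hρsur (l i)
  have hsum : germ (∑ i, w i • a i) ∈ IsLocalRing.maximalIdeal (X.presheaf.stalk x) ^ 2 := by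
    have hmem : ∀ i, germ (algebraMap k Γ(X, V) (w i) * a i) ∈ IsLocalRing.maximalIdeal (X.presheaf.stalk x) := by
      intro i
      exact hgm _ (by simp [a])
    have hmem' : germ (∑ i, w i • a i) ∈ IsLocalRing.maximalIdeal (X.presheaf.stalk x) := by
      simp only [Algebra.smul_def, map_sum]
      exact Ideal.sum_mem _ fun i _ => hmem i
    refine ((IsLocalRing.maximalIdeal (X.presheaf.stalk x)).toCotangent_eq_zero ⟨_, hmem'⟩).1 ?_
    have e : (⟨_, hmem'⟩ : ↥(IsLocalRing.maximalIdeal (X.presheaf.stalk x))) =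
        ∑ i, germ (algebraMap k Γ(X, V) (w i)) • ⟨germ (a i), hgm _ (by simp [a])⟩ := by
      refine Subtype.ext ?_
      simp only [Algebra.smul_def, map_sum, map_mul, AddSubmonoidClass.coe_finset_sum, SetLike.val_smul, smul_eq_mul]
      rfl
    rw [e, map_sum, ← hl]
    refine Finset.sum_congr rfl fun i _ => ?_
    rw [map_smul, ← hw i]
    rfl
  have hsq := mem_sq_of_germ hV hxV hm hsum
  rw [show (hV.primeIdealOf ⟨x, hxV⟩).asIdeal = RingHom.ker χ from hχ.symm] at hsq
  have hzero := hh χ (fun a ha => hχ.ge (hpm ha)) hχh w hsq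
  apply hi₀
  rw [← hw i₀, show w i₀ = 0 from congrFun hzero i₀, map_zero, map_zero]

theorem main {X Y : Scheme.{u}} (qX : X ⟶ Spec (CommRingCat.of k)) (qY : Y ⟶ Spec (CommRingCat.of k))
    [LocallyOfFiniteType qX] [QuasiCompact qX] [LocallyOfFiniteType qY] (f : X ⟶ Y) (hf : f ≫ qY = qX) (r : ℕ) :
    topologicalKrullDim ↥(closure (f.base '' locus f r)) ≤ r := by
  classical
  subst hf
  haveI : IsLocallyNoetherian X := LocallyOfFiniteType.isLocallyNoetherian (f ≫ qY)
  haveI : CompactSpace X := QuasiCompact.compactSpace_of_compactSpace (f ≫ qY)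
  haveI : IsNoetherian X := {}
  obtain ⟨S, hSf, hSc, hSi, hS⟩ :=
    TopologicalSpace.NoetherianSpace.exists_finite_set_isClosed_irreducible
      (isClosed_closure (s := locus f r))
  have hgp : ∀ t ∈ S, ∃ η, closure ({η} : Set X) = t := fun t ht =>
    ⟨(hSi t ht).genericPoint, (hSi t ht).genericPoint_closure_eq.trans (hSc t ht).closure_eq⟩
  choose g hg using hgp
  let P : Finset X := hSf.toFinset.attach.image fun t => g t.1 (hSf.mem_toFinset.1 t.2)
  have hPmem : ∀ η ∈ P, η ∈ closure (locus f r) := by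
    intro η hη
    obtain ⟨⟨t, ht⟩, -, rfl⟩ := Finset.mem_image.1 hη
    rw [hS]
    exact Set.mem_sUnion.2 ⟨t, hSf.mem_toFinset.1 ht,
      (hg t (hSf.mem_toFinset.1 ht)).le (subset_closure rfl)⟩
  have hPcov : ∀ x ∈ closure (locus f r), ∃ η ∈ P, η ⤳ x := by
    intro x hx
    rw [hS] at hx
    obtain ⟨t, ht, hxt⟩ := Set.mem_sUnion.1 hx
    exact ⟨g t ht, Finset.mem_image.2 ⟨⟨t, hSf.mem_toFinset.2 ht⟩, Finset.mem_attach _ _, rfl⟩,
      specializes_iff_mem_closure.2 ((hg t ht).ge hxt)⟩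
  have hP : ∀ η ∈ P, Order.height (f η) ≤ (r : ℕ∞) := by
    intro η hη
    obtain ⟨η', hle, hmax⟩ := P.exists_le_maximal hη
    have hmono : f η ≤ f η' := show f η' ⤳ f η from Specializes.map hle f.continuous
    refine (Order.height_mono hmono).trans ?_
    let V₀ : X.Opens := ⟨(⋃ z ∈ P.erase η', closure ({z} : Set X))ᶜ,
      (isClosed_biUnion_finset fun z _ => isClosed_closure).isOpen_compl⟩
    refine height_le_of_dense qY f r η' (V₀ := V₀) ?_ (hPmem η' hmax.1) fun x hx hxV => ?_
    · intro hmem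
      obtain ⟨z, hz, hz'⟩ := Set.mem_iUnion₂.1 hmem
      obtain ⟨hne, hzP⟩ := Finset.mem_erase.1 hz
      have h1 : η' ≤ z := specializes_iff_mem_closure.2 hz'
      exact hne (le_antisymm (hmax.2 hzP h1) h1)
    · obtain ⟨z, hz, hzx⟩ := hPcov x (subset_closure hx)
      rcases eq_or_ne z η' with rfl | hne
      · exact hzx
      · exact absurd (Set.mem_iUnion₂.2 ⟨z, Finset.mem_erase.2 ⟨hne, hz⟩, specializes_iff_mem_closure.1 hzx⟩) hxV
  have hC : closure (f.base '' locus f r) ⊆ ⋃ η ∈ P, closure ({f η} : Set Y) := by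
    refine closure_minimal ?_ (isClosed_biUnion_finset fun z _ => isClosed_closure)
    rintro _ ⟨x, hx, rfl⟩
    obtain ⟨η, hη, hsp⟩ := hPcov x (subset_closure hx)
    exact Set.mem_iUnion₂.2 ⟨η, hη, specializes_iff_mem_closure.1 (hsp.map f.continuous)⟩
  set C := closure (f.base '' locus f r) with hCdef
  have hCc : IsClosedEmbedding (Subtype.val : C → Y) := isClosed_closure.isClosedEmbedding_subtypeVal
  haveI : QuasiSober C := hCc.quasiSober
  refine iSup_le fun l => ?_
  let G : TopologicalSpace.IrreducibleCloseds C → Y := fun Z => (irreducibleSetEquivPoints Z : C).1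
  have hG : StrictMono G := by
    intro Z Z' hlt
    have hcl : ∀ Z : TopologicalSpace.IrreducibleCloseds C,
        closure ({irreducibleSetEquivPoints Z} : Set C) = (Z : Set C) := fun Z =>
      congrArg (fun W : TopologicalSpace.IrreducibleCloseds C => (W : Set C))
        (irreducibleSetEquivPoints.toEquiv.symm_apply_apply Z)
    have h2 : irreducibleSetEquivPoints Z' ⤳ irreducibleSetEquivPoints Z := by
      refine specializes_iff_mem_closure.2 ?_
      rw [hcl Z']
      exact hlt.le ((hcl Z).le (subset_closure rfl))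
    refine lt_of_le_of_ne ((subtype_specializes_iff _ _).1 h2) fun h => hlt.ne ?_
    exact irreducibleSetEquivPoints.toEquiv.injective (Subtype.ext h)
  obtain ⟨η, hη, hsp⟩ := Set.mem_iUnion₂.1 (hC (irreducibleSetEquivPoints l.last : C).2)
  have hle : G l.last ≤ f η := specializes_iff_mem_closure.2 hsp
  have h3 : ((l.map G hG).length : ℕ∞) ≤ Order.height (f η) := Order.length_le_height (p := l.map G hG) (by simpa using hle)
  have := h3.trans (hP η hη)
  have hn : l.length ≤ r := ENat.coe_le_coe.1 this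
  exact WithBot.coe_le_coe.2 (ENat.coe_le_coe.2 hn)

end Groth.Agent.RankLocus
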